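import Cfsg.Agent.Helper96.M22c.Perm3.Misc
import Cfsg.Agent.Helper96.M22c.Perm3.Perm0
import Cfsg.Agent.Helper96.M22c.Perm3.Perm1
import Cfsg.Agent.Helper96.M22c.Perm3.Perm2
import Cfsg.Agent.Helper96.M22c.Perm3.Perm3
import Cfsg.Agent.Helper96.M22c.Perm3.Perm4
set_option autoImplicit false
namespace Cfsg.Agent.Helper96.M22c.Perm3
open Cfsg.Agent.Helper28
theorem perm_all : ∀ r, 0 ≤ r → r < 44 → relOk ptabs (tabs.word r) 0 ptabs.n = true := by
  intro r h1 h2
  by_cases c16 : r < 16
  · exact permRange_sound ptabs tabs.word letTr.get 11 2047 perm_eq 0 16 perm_ok_0 r (by omega) (by omega)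
  by_cases c24 : r < 24
  · exact permRange_sound ptabs tabs.word letTr.get 11 2047 perm_eq 16 8 perm_ok_16 r (by omega) (by omega)
  by_cases c32 : r < 32
  · exact permRange_sound ptabs tabs.word letTr.get 11 2047 perm_eq 24 8 perm_ok_24 r (by omega) (by omega)
  by_cases c40 : r < 40
  · exact permRange_sound ptabs tabs.word letTr.get 11 2047 perm_eq 32 8 perm_ok_32 r (by omega) (by omega)
  by_cases c44 : r < 44
  · exact permRange_sound ptabs tabs.word letTr.get 11 2047 perm_eq 40 4 perm_ok_40 r (by omega) (by omega)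
  omega
end Cfsg.Agent.Helper96.M22c.Perm3
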